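import Mathlib

/-! Elementary abelian images generated by few elements, and small 2-group facts. -/

set_option autoImplicit false

namespace Cfsg.Agent.Harada1235

open Subgroup

variable {X : Type*} [Group X] [Finite X]

theorem comm_of_exp_two (hX : ∀ a : X, a * a = 1) (a b : X) : a * b = b * a := by
  have h := hX (a * b)
  have ha : a⁻¹ = a := inv_eq_of_mul_eq_one_right (hX a)
  have hb : b⁻¹ = b := inv_eq_of_mul_eq_one_right (hX b)
  calc a * b = (a * b)⁻¹ := (inv_eq_of_mul_eq_one_right h).symm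
    _ = b * a := by rw [mul_inv_rev, ha, hb]

/-- Adjoining an element at most doubles an elementary abelian group. -/
theorem card_sup_zpowers (hX : ∀ a : X, a * a = 1) (K : Subgroup X) (a : X) :
    Nat.card ↥(K ⊔ zpowers a) ≤ 2 * Nat.card K := by
  haveI : K.Normal := ⟨fun n hn g => by
    rw [comm_of_exp_two hX g n, mul_inv_cancel_right]; exact hn⟩
  let φ : Bool × K → ↥(K ⊔ zpowers a) := fun p =>
    ⟨(p.2 : X) * (if p.1 then a else 1), mul_mem (mem_sup_left p.2.2) (by
      split_ifs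
      · exact mem_sup_right (mem_zpowers a)
      · exact one_mem _)⟩
  have hφ : Function.Surjective φ := by
    rintro ⟨w, hw⟩
    obtain ⟨k, hk, z, hz, rfl⟩ := mem_sup_of_normal_left.mp hw
    obtain ⟨n, rfl⟩ := mem_zpowers_iff.mp hz
    have ha2 : a ^ (2 : ℤ) = 1 := by rw [zpow_two]; exact hX a
    rcases Int.even_or_odd n with ⟨m, hm⟩ | ⟨m, hm⟩
    · refine ⟨(false, ⟨k, hk⟩), Subtype.ext ?_⟩
      have hm' : n = 2 * m := by omega
      simp [φ, hm', zpow_mul, ha2]
    · refine ⟨(true, ⟨k, hk⟩), Subtype.ext ?_⟩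
      simp [φ, hm, zpow_add, zpow_mul, ha2]
  refine (Nat.card_le_card_of_surjective φ hφ).trans ?_
  rw [Nat.card_prod, Nat.card_eq_fintype_card (α := Bool), Fintype.card_bool]

/-- Bound for a group of exponent two generated by a subgroup and two elements. -/
theorem card_le_of_gen (hX : ∀ a : X, a * a = 1) (K : Subgroup X) (a b : X) (k : ℕ)
    (hK : Nat.card K ≤ k) (h : K ⊔ zpowers a ⊔ zpowers b = ⊤) : Nat.card X ≤ 4 * k := by
  have h1 := card_sup_zpowers hX K a
  have h2 := card_sup_zpowers hX (K ⊔ zpowers a) b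
  rw [h, card_top] at h2
  omega

section Two

variable {S : Type*} [Group S] [Finite S]

/-- Some power of an element outside a subgroup is outside with square inside. -/
theorem exists_sq_mem (hS : IsPGroup 2 S) (T : Subgroup S) {g : S} (hg : g ∉ T) :
    ∃ k : ℕ, g ^ k ∉ T ∧ g ^ k * g ^ k ∈ T := by
  classical
  obtain ⟨n, hn⟩ := hS g
  have hex : ∃ n, g ^ 2 ^ n ∈ T := ⟨n, by rw [hn]; exact one_mem T⟩
  have h0 : Nat.find hex ≠ 0 := fun h => hg (by simpa [h] using Nat.find_spec hex)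
  obtain ⟨m, hm⟩ := Nat.exists_eq_succ_of_ne_zero h0
  refine ⟨2 ^ m, Nat.find_min hex (by omega), ?_⟩
  rw [← pow_add, ← two_mul, ← pow_succ']
  have h := Nat.find_spec hex
  rwa [hm] at h

/-- Disjoint subgroups inside a subgroup. -/
theorem card_mul_le {K B T : Subgroup S} (hK : K ≤ T) (hB : B ≤ T) (h : K ⊓ B = ⊥) :
    Nat.card K * Nat.card B ≤ Nat.card T := by
  rw [← Nat.card_prod]
  refine Nat.card_le_card_of_injective
    (fun p : K × B => (⟨(p.1 : S) * p.2, mul_mem (hK p.1.2) (hB p.2.2)⟩ : T)) ?_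
  rintro ⟨a, b⟩ ⟨a', b'⟩ e
  have e' : (a : S) * b = a' * b' := congrArg Subtype.val e
  have hw : (a' : S)⁻¹ * a = b' * (b : S)⁻¹ := by
    rw [eq_mul_inv_iff_mul_eq, mul_assoc, e', inv_mul_cancel_left]
  have hm : (a' : S)⁻¹ * a ∈ K ⊓ B :=
    mem_inf.mpr ⟨mul_mem (inv_mem a'.2) a.2, hw ▸ mul_mem b'.2 (inv_mem b.2)⟩
  rw [h, mem_bot] at hm
  refine Prod.ext (Subtype.ext ((inv_mul_eq_one.mp hm).symm)) (Subtype.ext ?_)
  exact (mul_inv_eq_one.mp (hw ▸ hm)).symm

end Two

end Cfsg.Agent.Harada1235
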