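import Cfsg.Agent.Lib.Recog.Harada1235.Count

/-! `T = D × B` with `D` non-abelian with a cyclic subgroup of index two. -/

set_option autoImplicit false

namespace Cfsg.Agent.Harada1235

open Subgroup

variable {S : Type*} [Group S] [Finite S]

/-- The hypotheses on `T = D × B`. -/
structure Prod4 (T D B : Subgroup S) : Prop where
  two : IsPGroup 2 S
  hDT : D ≤ T
  hBT : B ≤ T
  comm : ∀ a ∈ D, ∀ b ∈ B, a * b = b * a
  disj : D ⊓ B = ⊥
  dec : ∀ u ∈ T, ∃ a ∈ D, ∃ b ∈ B, u = a * b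
  card : Nat.card B = 4
  exp : ∀ b ∈ B, b * b = 1
  cent : ∀ b ∈ B, b ≠ 1 → centralizer ({b} : Set S) = T

theorem mem_two {c : S} {u v : S} (hu : u ∈ zpowers c) (hv : v ∈ zpowers c) (hu2 : u * u = 1)
    (hv2 : v * v = 1) (hu1 : u ≠ 1) (hv1 : v ≠ 1) : u = v := by
  have key : ∀ w ∈ zpowers c, w * w = 1 → w ≠ 1 → w = c ^ (orderOf c / 2) := by
    intro w hw hw2 hw1
    obtain ⟨i, hi⟩ := mem_powers_iff_mem_zpowers.mpr hw
    have hi' : c ^ (i % orderOf c) = w := by rw [pow_mod_orderOf]; exact hi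
    have hlt : i % orderOf c < orderOf c := Nat.mod_lt _ (orderOf_pos c)
    set j := i % orderOf c
    have hd : orderOf c ∣ j + j := orderOf_dvd_of_pow_eq_one (by rw [pow_add, hi', hw2])
    obtain ⟨q, hq⟩ := hd
    have hq2 : q < 2 := by
      by_contra hc
      have : orderOf c * 2 ≤ orderOf c * q := Nat.mul_le_mul_left _ (by omega)
      omega
    interval_cases q
    · exfalso
      refine hw1 ?_
      rw [← hi', show j = 0 by omega, pow_zero]
    · rw [← hi']
      congr 1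
      omega
  rw [key u hu hu2 hu1, key v hv hv2 hv1]

variable {T D B : Subgroup S}

namespace Prod4

variable (P : Prod4 T D B)
include P

theorem comm_T {b : S} (hb : b ∈ B) {u : S} (hu : u ∈ T) : u * b = b * u := by
  by_cases h : b = 1
  · simp [h]
  · exact mem_centralizer_singleton_iff.mp ((P.cent b hb h).symm ▸ hu)

theorem bound_nonabelian {c d : S} (hc : c ∈ D) (hd : d ∈ D)
    (hgen : ∀ u ∈ D, u ∈ zpowers c ∨ u * d ∈ zpowers c)
    (hna : ∃ u ∈ D, ∃ v ∈ D, u * v ≠ v * u)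
    (H : Subgroup S) {X : Type*} [Group X] [Finite X] (f : H →* X) (hf : Function.Surjective f)
    (hX : ∀ a : X, a * a = 1) : Nat.card X ≤ 16 := by
  classical
  set C := zpowers c with hCdef
  have hCD : C ≤ D := zpowers_le.mpr hc
  -- two elements of `D` outside `C` differ by an element of `C`
  have hout : ∀ u ∈ D, u ∉ C → ∀ v ∈ D, v ∉ C → u * v⁻¹ ∈ C := by
    intro u hu hu' v hv hv'
    have h := mul_mem ((hgen u hu).resolve_left hu') (inv_mem ((hgen v hv).resolve_left hv'))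
    rwa [show u * d * (v * d)⁻¹ = u * v⁻¹ by group] at h
  -- `C` is normal in `D`
  have hnorm : ∀ u ∈ D, ∀ k ∈ C, u * k * u⁻¹ ∈ C := by
    intro u hu k hk
    by_cases hu' : u ∈ C
    · exact mul_mem (mul_mem hu' hk) (inv_mem hu')
    · by_contra hout'
      have h := hout (u * k * u⁻¹) (mul_mem (mul_mem hu (hCD hk)) (inv_mem hu)) hout' u⁻¹
        (inv_mem hu) (fun e => hu' (inv_mem_iff.mp e))
      rw [show u * k * u⁻¹ * u⁻¹⁻¹ = u * k by group] at h
      exact hu' (by simpa using mul_mem h (inv_mem hk))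
  -- commutators of `T` lie in `C`
  have hcomm : ∀ u ∈ T, ∀ v ∈ T, u * v * u⁻¹ * v⁻¹ ∈ C := by
    intro u hu v hv
    obtain ⟨a, ha, b, hb, rfl⟩ := P.dec u hu
    obtain ⟨a', ha', b', hb', rfl⟩ := P.dec v hv
    have e : a * b * (a' * b') * (a * b)⁻¹ * (a' * b')⁻¹ = a * a' * a⁻¹ * a'⁻¹ := by
      have c1 : b * (a' * b') = a' * b' * b :=
        (P.comm_T hb (mul_mem (P.hDT ha') (P.hBT hb'))).symm
      have c2 : b' * a⁻¹ = a⁻¹ * b' := (P.comm_T hb' (P.hDT (inv_mem ha))).symm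
      calc a * b * (a' * b') * (a * b)⁻¹ * (a' * b')⁻¹
          = a * (b * (a' * b')) * b⁻¹ * a⁻¹ * b'⁻¹ * a'⁻¹ := by group
        _ = a * a' * (b' * a⁻¹) * b'⁻¹ * a'⁻¹ := by rw [c1]; group
        _ = a * a' * a⁻¹ * a'⁻¹ := by rw [c2]; group
    rw [e]
    by_cases h1 : a ∈ C
    · have := mul_mem h1 (hnorm a' ha' a⁻¹ (inv_mem h1))
      simpa [mul_assoc] using this
    by_cases h2 : a' ∈ C
    · exact mul_mem (hnorm a ha a' h2) (inv_mem h2)
    have hk := hout a ha h1 a' ha' h2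
    have h3 := mul_mem hk (hnorm a' ha' _ (inv_mem hk))
    rw [show a * a'⁻¹ * (a' * (a * a'⁻¹)⁻¹ * a'⁻¹) = a * a' * a⁻¹ * a'⁻¹ by group] at h3
    exact h3
  -- a commutator of order two
  obtain ⟨u0, hu0, v0, hv0, huv⟩ := hna
  have hk0 : u0 * v0 * u0⁻¹ * v0⁻¹ ≠ 1 := fun e => huv (by
    rw [mul_inv_eq_one, mul_inv_eq_iff_eq_mul] at e; exact e)
  let K : Subgroup S := closure {k | ∃ u ∈ T, ∃ v ∈ T, k = u * v * u⁻¹ * v⁻¹}
  have hKC : K ≤ C := (closure_le _).mpr (by rintro k ⟨u, hu, v, hv, rfl⟩; exact hcomm u hu v hv)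
  have hKD : K ≤ D := hKC.trans hCD
  have hk0K : u0 * v0 * u0⁻¹ * v0⁻¹ ∈ K :=
    subset_closure ⟨u0, P.hDT hu0, v0, P.hDT hv0, rfl⟩
  have hK1 : K ≠ ⊥ := fun e => hk0 (mem_bot.mp (e ▸ hk0K))
  haveI : Fact (Nat.Prime 2) := ⟨Nat.prime_two⟩
  obtain ⟨z0, hz0⟩ := exists_prime_orderOf_dvd_card' (G := K) 2 (by
    obtain ⟨n, hn⟩ := (P.two.to_subgroup K).exists_card_eq
    rw [hn]
    refine dvd_pow_self 2 fun h => hK1 (card_eq_one.mp (by rw [hn, h, pow_zero])))
  set z : S := (z0 : S) with hz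
  have hzK : z ∈ K := z0.2
  have hz1 : z ≠ 1 := fun e => by
    rw [show z0 = 1 from Subtype.ext e, orderOf_one] at hz0
    omega
  have hz2 : z * z = 1 := by
    have := pow_orderOf_eq_one z0
    rw [hz0, pow_two] at this
    exact congrArg Subtype.val this
  have hfixz : ∀ g ∈ normalizer (T : Set S), g * z * g⁻¹ = z := by
    intro g hg
    have hmap : K.map (MulAut.conj g).toMonoidHom ≤ K := by
      rw [MonoidHom.map_closure, closure_le]
      rintro _ ⟨k, ⟨u, hu, v, hv, rfl⟩, rfl⟩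
      refine subset_closure ⟨g * u * g⁻¹, (mem_normalizer_iff.mp hg u).mp hu, g * v * g⁻¹,
        (mem_normalizer_iff.mp hg v).mp hv, ?_⟩
      simp only [MulEquiv.coe_toMonoidHom, MulAut.conj_apply]
      group
    have hm : g * z * g⁻¹ ∈ K := hmap (mem_map.mpr ⟨z, hzK, rfl⟩)
    refine mem_two (hKC hm) (hKC hzK) ?_ hz2 (fun e => hz1 (conj_eq_one_iff.mp e)) hz1
    rw [show g * z * g⁻¹ * (g * z * g⁻¹) = g * (z * z) * g⁻¹ by group, hz2]
    group
  -- central involutions of `D`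
  have hcen : ∀ a ∈ D, a * a = 1 → (∀ w ∈ D, a * w = w * a) → a = 1 ∨ a = z := by
    intro a ha ha2 hac
    by_cases h : a ∈ C
    · by_cases h1 : a = 1
      · exact Or.inl h1
      · exact Or.inr (mem_two h (hKC hzK) ha2 hz2 h1 hz1)
    · exfalso
      have hform : ∀ w ∈ D, ∃ k ∈ C, w = k ∨ w = k * a := by
        intro w hw
        by_cases hw' : w ∈ C
        · exact ⟨w, hw', Or.inl rfl⟩
        · exact ⟨w * a⁻¹, hout w hw hw' a ha h, Or.inr (by group)⟩
      have hCC : ∀ k ∈ C, ∀ l ∈ C, Commute k l := by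
        rintro k hk l hl
        obtain ⟨i, rfl⟩ := mem_zpowers_iff.mp hk
        obtain ⟨j, rfl⟩ := mem_zpowers_iff.mp hl
        exact Commute.zpow_zpow_self c i j
      obtain ⟨k, hk, e1⟩ := hform u0 hu0
      obtain ⟨l, hl, e2⟩ := hform v0 hv0
      have ca : ∀ w ∈ D, Commute a w := fun w hw => hac w hw
      have ka : Commute k a := (ca k (hCD hk)).symm
      have la : Commute l a := (ca l (hCD hl)).symm
      refine huv ?_
      rcases e1 with rfl | rfl <;> rcases e2 with rfl | rfl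
      · exact (hCC _ hk _ hl).eq
      · exact ((hCC _ hk _ hl).mul_right ka).eq
      · exact ((hCC _ hk _ hl).mul_left la.symm).eq
      · exact (((hCC _ hk _ hl).mul_right ka).mul_left (la.symm.mul_right (Commute.refl a))).eq
  -- `T` is its own normalizer
  have hN : normalizer (T : Set S) ≤ T := by
    by_contra hnot
    obtain ⟨g0, hg0, hg0T⟩ := SetLike.not_le_iff_exists.mp hnot
    obtain ⟨k, hgT, hg2⟩ := exists_sq_mem P.two T hg0T
    set g := g0 ^ k with hgdef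
    have hgN : g ∈ normalizer (T : Set S) := pow_mem hg0 k
    have hmove : ∀ b ∈ B, b ≠ 1 → g * b * g⁻¹ ≠ b := fun b hb hb1 e => hgT (by
      rw [← P.cent b hb hb1, mem_centralizer_singleton_iff]
      exact mul_inv_eq_iff_eq_mul.mp e)
    have hshift : ∀ b ∈ B, b ≠ 1 → g * b * g⁻¹ = b * z := by
      intro b hb hb1
      set s := g * b * g⁻¹ with hs
      have hsT : s ∈ T := (mem_normalizer_iff.mp hgN b).mp (P.hBT hb)
      have hs2 : s * s = 1 := by
        rw [hs, show g * b * g⁻¹ * (g * b * g⁻¹) = g * (b * b) * g⁻¹ by group, P.exp b hb]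
        group
      have hsb : g * s * g⁻¹ = b := by
        rw [hs, show g * (g * b * g⁻¹) * g⁻¹ = g * g * b * (g * g)⁻¹ by group,
          P.comm_T hb hg2, mul_inv_cancel_right]
      obtain ⟨a, ha, b', hb', e⟩ := P.dec (b * s) (mul_mem (P.hBT hb) hsT)
      have hzs : ∀ w ∈ T, Commute w (b * s) := fun w hw => by
        refine Commute.mul_right (P.comm_T hb hw) ?_
        have hw' : g⁻¹ * w * g ∈ T := (mem_normalizer_iff''.mp hgN w).mp hw
        have := (Commute.map (P.comm_T hb hw' : Commute (g⁻¹ * w * g) b) (MulAut.conj g))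
        simpa [hs, mul_assoc] using this
      have hsbc : Commute s b := (P.comm_T hb hsT)
      have hp2 : b * s * (b * s) = 1 := by
        rw [mul_assoc b s, ← mul_assoc s b s, hsbc.eq, mul_assoc b s s, hs2, mul_one, P.exp b hb]
      have hab : Commute a b' := P.comm a ha b' hb'
      have ha2 : a * a = 1 := by
        have h : a * b' * (a * b') = 1 := by rw [← e]; exact hp2
        rw [mul_assoc, ← mul_assoc b', ← hab.eq, mul_assoc a b', P.exp b' hb', mul_one] at h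
        exact h
      have hac : ∀ w ∈ D, a * w = w * a := fun w hw => by
        have h1 := hzs w (P.hDT hw)
        rw [e] at h1
        have h2 : Commute w b'⁻¹ := Commute.inv_right (P.comm w hw b' hb')
        have h3 := h1.mul_right h2
        rw [mul_inv_cancel_right] at h3
        exact h3.eq.symm
      have hfix : g * (b * s) * g⁻¹ = b * s := by
        rw [show g * (b * s) * g⁻¹ = (g * b * g⁻¹) * (g * s * g⁻¹) by group, hsb, ← hs]
        exact hsbc.eq
      have hafix : g * a * g⁻¹ = a := by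
        rcases hcen a ha ha2 hac with h | h <;> rw [h]
        · group
        · exact hfixz g hgN
      rw [e, show g * (a * b') * g⁻¹ = (g * a * g⁻¹) * (g * b' * g⁻¹) by group, hafix,
        mul_right_inj] at hfix
      have hb'1 : b' = 1 := by
        by_contra hne
        exact hmove b' hb' hne hfix
      rw [hb'1, mul_one] at e
      have hs' : s = b * a := by
        rw [← e, ← mul_assoc, P.exp b hb, one_mul]
      rcases hcen a ha ha2 hac with h | h
      · exact absurd (by rw [← hs, hs', h, mul_one]) (hmove b hb hb1)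
      · rw [hs', h]
    obtain ⟨b1, b2, hb1, hb2, h1, h2, h12⟩ : ∃ b1 b2, b1 ∈ B ∧ b2 ∈ B ∧ b1 ≠ 1 ∧ b2 ≠ 1 ∧
        b1 ≠ b2 := by
      obtain ⟨b1, hb1, h1⟩ := (B.bot_or_exists_ne_one).resolve_left fun h => by
        have := P.card; rw [h, card_bot] at this; omega
      have : ∃ b2 ∈ B, b2 ≠ 1 ∧ b2 ≠ b1 := by
        by_contra hh
        push Not at hh
        have hsub : (B : Set S) ⊆ {1, b1} := fun w hw => by
          by_cases hw1 : w = 1
          · exact Or.inl hw1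
          · exact Or.inr (hh w hw hw1)
        have hle : Nat.card B ≤ 2 := by
          rw [← SetLike.coe_sort_coe, Nat.card_coe_set_eq]
          exact (Set.ncard_le_ncard hsub).trans (by
            refine (Set.ncard_insert_le _ _).trans ?_
            simp)
        have := P.card; omega
      obtain ⟨b2, hb2, h2, h3⟩ := this
      exact ⟨b1, b2, hb1, hb2, h1, h2, fun e => h3 e.symm⟩
    have h3 : b1 * b2 ≠ 1 := fun e => h12 (by
      have := P.exp b2 hb2
      exact mul_right_cancel (e.trans this.symm))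
    refine hmove _ (mul_mem hb1 hb2) h3 ?_
    rw [show g * (b1 * b2) * g⁻¹ = (g * b1 * g⁻¹) * (g * b2 * g⁻¹) by group, hshift b1 hb1 h1,
      hshift b2 hb2 h2, mul_assoc b1 z, ← mul_assoc z b2,
      P.comm z (hKD hzK) b2 hb2, mul_assoc b2 z z, hz2, mul_one]
  have hTtop : T = ⊤ := by
    by_contra hne
    haveI : Fact (Nat.Prime 2) := ⟨Nat.prime_two⟩
    haveI : Group.IsNilpotent S := P.two.isNilpotent
    exact absurd hN (not_le_of_gt (normalizerCondition_of_isNilpotent _ (lt_top_iff_ne_top.mpr hne)))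
  -- four generators
  have hdec : ∀ u : H, ∃ a ∈ D, ∃ b ∈ B, (u : S) = a * b := fun u =>
    P.dec u (hTtop ▸ mem_top _)
  set L := D ⊓ (H ⊔ B) with hL
  haveI hBn : B.Normal := ⟨fun b hb w => by
    rw [P.comm_T hb (hTtop ▸ mem_top w), mul_inv_cancel_right]; exact hb⟩
  have hLlift : ∀ a ∈ L, ∃ h : H, ∃ b ∈ B, (h : S) = a * b := by
    intro a ha
    obtain ⟨h, hh, b, hb, e⟩ := mem_sup_of_normal_right.mp (mem_inf.mp ha).2
    exact ⟨⟨h, hh⟩, b⁻¹, inv_mem hb, by rw [← e, mul_inv_cancel_right]⟩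
  have hLmem : ∀ u : H, ∀ a ∈ D, ∀ b ∈ B, (u : S) = a * b → a ∈ L := fun u a ha b hb e =>
    mem_inf.mpr ⟨ha, by
      rw [eq_mul_inv_of_mul_eq e.symm]
      exact mul_mem (mem_sup_left u.2) (mem_sup_right (inv_mem hb))⟩
  haveI : IsCyclic ↥(L ⊓ C) := isCyclic_of_le (H' := C) inf_le_right
  obtain ⟨⟨c1, hc1⟩, hc1g⟩ := IsCyclic.exists_generator (α := ↥(L ⊓ C))
  obtain ⟨h1, β1, hβ1, e1⟩ := hLlift c1 (mem_inf.mp hc1).1
  have hout2 : ∃ h2 : H, ∀ a ∈ L, a ∉ C → ∃ b ∈ B, ∃ a2 ∈ L, a2 ∉ C ∧ (h2 : S) = a2 * b := by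
    by_cases h : ∃ a2 ∈ L, a2 ∉ C
    · obtain ⟨a2, ha2, ha2C⟩ := h
      obtain ⟨h2, b, hb, e⟩ := hLlift a2 ha2
      exact ⟨h2, fun _ _ _ => ⟨b, hb, a2, ha2, ha2C, e⟩⟩
    · exact ⟨1, fun a ha haC => absurd ⟨a, ha, haC⟩ h⟩
  obtain ⟨h2, hh2⟩ := hout2
  set KB : Subgroup H := B.subgroupOf H with hKB
  have hKB4 : Nat.card (KB.map f) ≤ 4 := by
    refine (Nat.le_of_dvd Nat.card_pos (card_map_dvd _ f)).trans ?_
    rw [← P.card]
    exact Nat.card_le_card_of_injective
      (fun w : KB => (⟨((w : H) : S), w.2⟩ : B))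
      fun a b e => Subtype.ext (Subtype.ext (congrArg (fun t : B => (t : S)) e))
  refine card_le_of_gen hX (KB.map f) (f h1) (f h2) 4 hKB4 (eq_top_iff.mpr fun y _ => ?_)
  obtain ⟨u, rfl⟩ := hf y
  have hsame : ∀ u : H, ∀ a ∈ L ⊓ C, ∀ b ∈ B, (u : S) = a * b →
      f u ∈ KB.map f ⊔ zpowers (f h1) := by
    intro u a ha b hb e
    obtain ⟨i, hi⟩ := mem_zpowers_iff.mp (hc1g ⟨a, ha⟩)
    have hi' : c1 ^ i = a := congrArg Subtype.val hi
    have hcb : Commute c1 β1 := P.comm c1 ((mem_inf.mp (mem_inf.mp hc1).1).1) β1 hβ1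
    have hm : ((h1 ^ i)⁻¹ * u : H) ∈ KB := by
      rw [hKB, mem_subgroupOf]
      push_cast
      rw [e1, hcb.mul_zpow, hi', e, mul_inv_rev]
      rw [show (β1 ^ i)⁻¹ * a⁻¹ * (a * b) = (β1 ^ i)⁻¹ * b by group]
      exact mul_mem (inv_mem (zpow_mem hβ1 i)) hb
    rw [show u = h1 ^ i * ((h1 ^ i)⁻¹ * u) by group, map_mul, map_zpow]
    exact mul_mem (mem_sup_right (zpow_mem_zpowers _ i)) (mem_sup_left (mem_map_of_mem f hm))
  obtain ⟨a, ha, b, hb, e⟩ := hdec u
  have haL := hLmem u a ha b hb e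
  by_cases haC : a ∈ C
  · exact mem_sup_left (hsame u a ⟨haL, haC⟩ b hb e)
  obtain ⟨β2, hβ2, a2, ha2, ha2C, e2⟩ := hh2 a haL haC
  have hx : f (u * h2⁻¹) ∈ KB.map f ⊔ zpowers (f h1) := by
    refine hsame (u * h2⁻¹) (a * a2⁻¹) (mem_inf.mpr ⟨mul_mem haL (inv_mem ha2),
      hout a ha haC a2 (mem_inf.mp ha2).1 ha2C⟩) (b * β2⁻¹) (mul_mem hb (inv_mem hβ2)) ?_
    push_cast
    rw [e, e2, mul_inv_rev]
    have c1 : Commute (b * β2⁻¹) a2⁻¹ :=
      (P.comm _ (inv_mem (mem_inf.mp ha2).1) _ (mul_mem hb (inv_mem hβ2))).symm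
    calc a * b * (β2⁻¹ * a2⁻¹) = a * (b * β2⁻¹ * a2⁻¹) := by group
      _ = a * (a2⁻¹ * (b * β2⁻¹)) := by rw [c1.eq]
      _ = a * a2⁻¹ * (b * β2⁻¹) := by group
  rw [show u = u * h2⁻¹ * h2 by group, map_mul]
  exact mul_mem (mem_sup_left hx) (mem_sup_right (mem_zpowers _))

end Prod4

end Cfsg.Agent.Harada1235
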