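import Cfsg.Agent.Lib.Recog.Harada1235.Count
import Cfsg.Agent.Lib.FGS.SectionalRankFour

/-! A self-centralising elementary abelian subgroup of order sixteen containing a four-group all of
whose involutions have it as centraliser. -/

set_option autoImplicit false
set_option linter.all false

namespace Cfsg.Agent.Harada1235

open Subgroup
open scoped Pointwise

variable {S : Type*} [Group S]

theorem mem_sup_prod {K L : Subgroup S} (h : L ≤ normalizer (K : Set S)) {u : S}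
    (hu : u ∈ K ⊔ L) : ∃ k ∈ K, ∃ l ∈ L, u = k * l := by
  have := coe_mul_of_right_le_normalizer_left K L h
  have hu' : u ∈ ((K : Set S) * (L : Set S)) := this ▸ hu
  obtain ⟨k, hk, l, hl, e⟩ := Set.mem_mul.mp hu'
  exact ⟨k, hk, l, hl, e.symm⟩

theorem two_mul_card_le [Finite S] {A B : Subgroup S} (h : A < B) :
    2 * Nat.card A ≤ Nat.card B := by
  obtain ⟨k, hk⟩ := card_dvd_of_le h.le
  have hk2 : 2 ≤ k := by
    by_contra hc
    have : k = 0 ∨ k = 1 := by omega
    rcases this with rfl | rfl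
    · have : 0 < Nat.card B := Nat.card_pos
      omega
    · exact h.ne (eq_of_le_of_card_ge h.le (by omega))
  rw [hk, mul_comm (Nat.card A) k]
  exact Nat.mul_le_mul_right _ hk2

theorem card_inf_ker_mul {Q : Type*} [Group Q] (π : S →* Q) (A : Subgroup S) :
    Nat.card ↥(A ⊓ π.ker) * Nat.card ↥(A.map π) = Nat.card A := by
  have h := card_mul_index (π.comp A.subtype).ker
  rw [index_ker, MonoidHom.range_comp, range_subtype] at h
  convert h using 2
  exact Nat.card_congr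
    { toFun := fun x => ⟨⟨(x : S), x.2.1⟩, x.2.2⟩
      invFun := fun x => ⟨((x : A) : S), ⟨(x : A).2, x.2⟩⟩
      left_inv := fun _ => rfl
      right_inv := fun _ => rfl }

/-- A homomorphism killing the image of an endomorphism has small image. -/
theorem card_range_le_ker {K X : Type*} [Group K] [Finite K] [Group X] (δ : K →* K) (φ : K →* X)
    (h : δ.range ≤ φ.ker) : Nat.card φ.range ≤ Nat.card δ.ker := by
  have h1 := card_mul_index δ.ker
  have h2 := card_mul_index φ.ker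
  rw [index_ker] at h1 h2
  have h3 : Nat.card δ.range ≤ Nat.card φ.ker := Nat.le_of_dvd Nat.card_pos (card_dvd_of_le h)
  have h4 : 0 < Nat.card δ.range := Nat.card_pos
  by_contra hc
  have h5 : Nat.card δ.ker * Nat.card δ.range < Nat.card φ.range * Nat.card δ.range :=
    Nat.mul_lt_mul_of_pos_right (by omega) h4
  have h6 : Nat.card φ.range * Nat.card δ.range ≤ Nat.card φ.range * Nat.card φ.ker :=
    Nat.mul_le_mul_left _ h3
  rw [mul_comm (Nat.card φ.range) (Nat.card φ.ker)] at h6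
  omega

variable [Finite S]

/-- The hypotheses on `E` and `B`. -/
structure Elem (E B : Subgroup S) : Prop where
  two : IsPGroup 2 S
  hBE : B ≤ E
  card : Nat.card E = 16
  exp : ∀ e ∈ E, e * e = 1
  cardB : Nat.card B = 4
  cent : ∀ b ∈ B, b ≠ 1 → centralizer ({b} : Set S) = E

variable {E B : Subgroup S}

namespace Elem

variable (P : Elem E B)
include P

theorem inv_eq {e : S} (he : e ∈ E) : e⁻¹ = e := inv_eq_of_mul_eq_one_right (P.exp e he)

theorem commute {a b : S} (ha : a ∈ E) (hb : b ∈ E) : Commute a b := by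
  have h := P.inv_eq (mul_mem ha hb)
  rw [mul_inv_rev, P.inv_eq ha, P.inv_eq hb] at h
  exact h.symm

theorem mem_of_fix {g b : S} (hb : b ∈ B) (hb1 : b ≠ 1) (h : g * b = b * g) : g ∈ E :=
  P.cent b hb hb1 ▸ mem_centralizer_singleton_iff.mpr h

theorem fix_le_four {g : S} (hg : g ∉ E) :
    Nat.card ↥(E ⊓ centralizer ({g} : Set S)) ≤ 4 := by
  have hd : (E ⊓ centralizer ({g} : Set S)) ⊓ B = ⊥ := by
    refine (eq_bot_iff_forall _).mpr fun w hw => ?_
    obtain ⟨hw1, hwB⟩ := mem_inf.mp hw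
    by_contra hne
    exact hg (P.mem_of_fix hwB hne (mem_centralizer_singleton_iff.mp (mem_inf.mp hw1).2).symm)
  have := card_mul_le (inf_le_left : E ⊓ centralizer ({g} : Set S) ≤ E) P.hBE hd
  rw [P.cardB, P.card] at this
  omega

theorem four_le_fix {g : S} (hgN : g ∈ normalizer (E : Set S)) (hg2 : g * g ∈ E) :
    4 ≤ Nat.card ↥(E ⊓ centralizer ({g} : Set S)) := by
  have hin : ∀ e ∈ E, g * e * g⁻¹ ∈ E := fun e he => (mem_normalizer_iff.mp hgN e).mp he
  let δ : E →* E := MonoidHom.mk'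
    (fun e => ⟨g * e * g⁻¹ * (e : S)⁻¹, mul_mem (hin e e.2) (inv_mem e.2)⟩) (by
      intro a b
      apply Subtype.ext
      show g * (a * b : S) * g⁻¹ * ((a : S) * b)⁻¹ =
        g * a * g⁻¹ * (a : S)⁻¹ * (g * b * g⁻¹ * (b : S)⁻¹)
      have c : Commute (a : S)⁻¹ (g * b * g⁻¹ * (b : S)⁻¹) :=
        P.commute (inv_mem a.2) (mul_mem (hin b b.2) (inv_mem b.2))
      calc g * (a * b : S) * g⁻¹ * ((a : S) * b)⁻¹
          = g * a * g⁻¹ * ((g * b * g⁻¹ * (b : S)⁻¹) * (a : S)⁻¹) := by group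
        _ = _ := by rw [← c.eq]; group)
  have hker : Nat.card δ.ker ≤ Nat.card ↥(E ⊓ centralizer ({g} : Set S)) :=
    Nat.card_le_card_of_injective
      (fun w : δ.ker => (⟨((w : E) : S), mem_inf.mpr ⟨(w : E).2, mem_centralizer_singleton_iff.mpr (by
        have h : g * ((w : E) : S) * g⁻¹ * ((w : E) : S)⁻¹ = 1 := congrArg Subtype.val (MonoidHom.mem_ker.mp w.2)
        rw [mul_inv_eq_one, mul_inv_eq_iff_eq_mul] at h
        exact h.symm)⟩⟩ : ↥(E ⊓ centralizer ({g} : Set S))))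
      (fun a b e => by
        exact Subtype.ext (Subtype.ext (congrArg (fun t : ↥(E ⊓ centralizer ({g} : Set S)) => (t : S)) e)))
  have hle : δ.range ≤ δ.ker := by
    rintro _ ⟨e, rfl⟩
    refine Subtype.ext ?_
    show g * (g * e * g⁻¹ * (e : S)⁻¹) * g⁻¹ * (g * e * g⁻¹ * (e : S)⁻¹)⁻¹ = 1
    have hc : g * g * (e : S) * (g * g)⁻¹ = e := by
      rw [(P.commute hg2 e.2).eq, mul_inv_cancel_right]
    have hi : (g * (e : S) * g⁻¹)⁻¹ = g * e * g⁻¹ := P.inv_eq (hin e e.2)
    have hi' : ((e : S))⁻¹ = e := P.inv_eq e.2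
    calc g * (g * e * g⁻¹ * (e : S)⁻¹) * g⁻¹ * (g * e * g⁻¹ * (e : S)⁻¹)⁻¹
        = g * g * e * (g * g)⁻¹ * (g * e * g⁻¹)⁻¹ * ((e : S) * (g * e * g⁻¹)⁻¹) := by group
      _ = (e : S) * (g * e * g⁻¹) * ((e : S) * (g * e * g⁻¹)) := by rw [hc, hi]
      _ = 1 := P.exp _ (mul_mem e.2 (hin e e.2))
  have h1 := card_mul_index δ.ker
  rw [index_ker, P.card] at h1
  have h2 : Nat.card δ.range ≤ Nat.card δ.ker := Nat.le_of_dvd Nat.card_pos (card_dvd_of_le hle)
  by_contra hc
  have : Nat.card δ.ker * Nat.card δ.range ≤ 3 * 3 := Nat.mul_le_mul (by omega) (by omega)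
  omega

/-- The normalizer of `E` has order at most 64. -/
theorem card_normalizer : Nat.card ↥(normalizer (E : Set S)) ≤ 64 := by
  classical
  haveI : Fact (Nat.Prime 2) := ⟨Nat.prime_two⟩
  set N := normalizer (E : Set S) with hN
  have hEN : E ≤ N := le_normalizer
  set E' : Subgroup N := E.subgroupOf N with hE'
  haveI : E'.Normal := normal_in_normalizer
  by_cases htop : ∀ u : N, (u : S) ∈ E
  · have : Nat.card N ≤ Nat.card E := Nat.card_le_card_of_injective
      (fun u : N => (⟨(u : S), htop u⟩ : E))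
      (fun a b e => Subtype.ext (congrArg (fun t : E => (t : S)) e))
    rw [P.card] at this
    omega
  push Not at htop
  obtain ⟨u0, hu0⟩ := htop
  have hN2 : IsPGroup 2 N := P.two.to_subgroup N
  have hQ2 : IsPGroup 2 (N ⧸ E') := hN2.to_quotient E'
  haveI : Nontrivial (N ⧸ E') := ⟨⟨(u0 : N ⧸ E'), 1, fun e => hu0 (by
    rw [QuotientGroup.eq_one_iff] at e; exact e)⟩⟩
  haveI := hQ2.center_nontrivial
  obtain ⟨q, hq⟩ := exists_prime_orderOf_dvd_card' (G := Subgroup.center (N ⧸ E')) 2 (by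
    obtain ⟨n, hn⟩ := (hQ2.to_subgroup (Subgroup.center (N ⧸ E'))).exists_card_eq
    rw [hn]
    refine dvd_pow_self 2 fun h => ?_
    rw [h, pow_zero] at hn
    have : 1 < Nat.card ↥(Subgroup.center (N ⧸ E')) := Finite.one_lt_card
    omega)
  obtain ⟨σ, hσ⟩ := QuotientGroup.mk'_surjective E' (q : N ⧸ E')
  have hσE : (σ : S) ∉ E := by
    intro h
    have : (q : N ⧸ E') = 1 := by
      rw [← hσ]; exact (QuotientGroup.eq_one_iff σ).mpr h
    rw [show q = 1 from Subtype.ext this, orderOf_one] at hq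
    omega
  have hσ2 : (σ : S) * σ ∈ E := by
    have h : ((σ * σ : N) : N ⧸ E') = 1 := by
      have := congrArg Subtype.val (pow_orderOf_eq_one q)
      rw [hq, pow_two] at this
      push_cast at this
      rw [← this, ← hσ]
      rfl
    exact mem_subgroupOf.mp ((QuotientGroup.eq_one_iff (σ * σ)).mp h)
  have hcentral : ∀ u : N, (u : S) * σ * (u : S)⁻¹ * (σ : S)⁻¹ ∈ E := by
    intro u
    have h1 := Subgroup.mem_center_iff.mp q.2 (QuotientGroup.mk' E' u)
    rw [← hσ, ← map_mul, ← map_mul] at h1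
    have h2 : ((u * σ * u⁻¹ * σ⁻¹ : N) : N ⧸ E') = 1 := by
      show QuotientGroup.mk' E' (u * σ * u⁻¹ * σ⁻¹) = 1
      rw [map_mul, map_mul, h1, map_mul, map_inv, map_inv]
      group
    exact mem_subgroupOf.mp ((QuotientGroup.eq_one_iff (u * σ * u⁻¹ * σ⁻¹)).mp h2)
  set F := E ⊓ centralizer ({(σ : S)} : Set S) with hF
  have hF4 : Nat.card F = 4 := le_antisymm (P.fix_le_four hσE) (P.four_le_fix σ.2 hσ2)
  have hinv : ∀ u : N, ∀ e ∈ F, (u : S) * e * (u : S)⁻¹ ∈ F := by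
    intro u e he
    obtain ⟨heE, hec⟩ := mem_inf.mp he
    have he' : (u : S) * e * (u : S)⁻¹ ∈ E := (mem_normalizer_iff.mp u.2 e).mp heE
    refine mem_inf.mpr ⟨he', mem_centralizer_singleton_iff.mpr ?_⟩
    have h1 : Commute ((u : S) * e * (u : S)⁻¹) ((u : S) * σ * (u : S)⁻¹) :=
      (show Commute e (σ : S) from mem_centralizer_singleton_iff.mp hec).map (MulAut.conj (u : S))
    have h2 : Commute ((u : S) * e * (u : S)⁻¹) ((u : S) * σ * (u : S)⁻¹ * (σ : S)⁻¹)⁻¹ :=
      (P.commute he' (hcentral u)).inv_right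
    have h3 := h2.mul_right h1
    rw [show ((u : S) * σ * (u : S)⁻¹ * (σ : S)⁻¹)⁻¹ * ((u : S) * σ * (u : S)⁻¹) = σ by group] at h3
    exact h3.eq
  have hFE : F ≤ E := inf_le_left
  have hFB : F ⊓ B = ⊥ := by
    refine (eq_bot_iff_forall _).mpr fun w hw => ?_
    by_contra hne
    exact hσE (P.mem_of_fix (mem_inf.mp hw).2 hne
      (mem_centralizer_singleton_iff.mp (mem_inf.mp (mem_inf.mp hw).1).2).symm)
  set F' : Subgroup N := F.subgroupOf N with hF'
  haveI : F'.Normal := ⟨fun e he u => hinv u (e : S) he⟩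
  have hN2' : IsPGroup 2 (N ⧸ F') := hN2.to_quotient F'
  haveI : (E'.map (QuotientGroup.mk' F')).Normal :=
    Subgroup.Normal.map inferInstance _ (QuotientGroup.mk'_surjective F')
  have hne : E'.map (QuotientGroup.mk' F') ≠ ⊥ := by
    intro h
    rw [Subgroup.map_eq_bot_iff, QuotientGroup.ker_mk'] at h
    have : E ≤ F := fun e he => h (x := (⟨e, hEN he⟩ : N)) he
    have := Nat.le_of_dvd Nat.card_pos (card_dvd_of_le this)
    rw [P.card, hF4] at this
    omega
  obtain ⟨w, hw, hw1, hwc⟩ := FGS.SectionalRankFour.exists_central hN2' _ hne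
  obtain ⟨e, he, rfl⟩ := Subgroup.mem_map.mp hw
  have heF : (e : S) ∉ F := fun h => hw1 ((QuotientGroup.eq_one_iff e).mpr h)
  have hsup : F ⊔ B = E := by
    refine eq_of_le_of_card_ge (sup_le hFE P.hBE) ?_
    have := card_mul_le (T := F ⊔ B) le_sup_left le_sup_right hFB
    rw [hF4, P.cardB] at this
    rw [P.card]
    omega
  obtain ⟨φ, hφ, a, ha, hea⟩ := mem_sup_prod (K := F) (L := B) (fun b hb => mem_normalizer_iff.mpr
    fun w => ⟨fun hw => hinv ⟨b, hEN (P.hBE hb)⟩ w hw, fun hw => by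
      have := hinv ⟨b, hEN (P.hBE hb)⟩⁻¹ _ hw
      simpa [mul_assoc] using this⟩) (show (e : S) ∈ F ⊔ B by rw [hsup]; exact he)
  have ha1 : a ≠ 1 := fun h => heF (by rw [hea, h, mul_one]; exact hφ)
  have hmove : ∀ u : N, (u : S) * a * (u : S)⁻¹ * a⁻¹ ∈ F := by
    intro u
    have h1 := Subgroup.mem_center_iff.mp hwc (QuotientGroup.mk' F' u)
    have h2 : ((u * e * u⁻¹ * e⁻¹ : N) : N ⧸ F') = 1 := by
      show QuotientGroup.mk' F' (u * e * u⁻¹ * e⁻¹) = 1
      rw [map_mul, map_mul, map_mul, h1, map_inv, map_inv]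
      group
    have h3 : (u : S) * e * (u : S)⁻¹ * (e : S)⁻¹ ∈ F :=
      mem_subgroupOf.mp ((QuotientGroup.eq_one_iff (u * e * u⁻¹ * e⁻¹)).mp h2)
    have h4 := mul_mem (mul_mem (inv_mem (hinv u φ hφ)) h3) hφ
    rw [hea] at h4
    rw [show ((u : S) * φ * (u : S)⁻¹)⁻¹ * ((u : S) * (φ * a) * (u : S)⁻¹ * (φ * a)⁻¹) * φ =
      (u : S) * a * (u : S)⁻¹ * a⁻¹ by group] at h4
    exact h4
  let ψ : N ⧸ E' → F := Quotient.lift (fun u : N => (⟨_, hmove u⟩ : F)) (by
    intro u v huv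
    have hh : (u : S)⁻¹ * v ∈ E :=
      mem_subgroupOf.mp (QuotientGroup.leftRel_apply.mp (huv : QuotientGroup.leftRel E' u v))
    refine Subtype.ext ?_
    show (u : S) * a * (u : S)⁻¹ * a⁻¹ = (v : S) * a * (v : S)⁻¹ * a⁻¹
    rw [show (v : S) * a * (v : S)⁻¹ = u * ((u : S)⁻¹ * v * a * ((u : S)⁻¹ * v)⁻¹) * (u : S)⁻¹ by
      group, (P.commute hh (P.hBE ha)).eq, mul_inv_cancel_right])
  have hψ : Function.Injective ψ := by
    intro x y
    induction x using QuotientGroup.induction_on with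
    | H u =>
      induction y using QuotientGroup.induction_on with
      | H v =>
        intro h
        have h' : (u : S) * a * (u : S)⁻¹ = v * a * (v : S)⁻¹ :=
          mul_right_cancel (congrArg Subtype.val h)
        refine QuotientGroup.eq.mpr (P.mem_of_fix ha ha1 ?_)
        calc (u : S)⁻¹ * v * a = (u : S)⁻¹ * (v * a * (v : S)⁻¹) * v := by group
          _ = (u : S)⁻¹ * (u * a * (u : S)⁻¹) * v := by rw [h']
          _ = a * ((u : S)⁻¹ * v) := by group
  have h5 : Nat.card (N ⧸ E') ≤ 4 := hF4 ▸ Nat.card_le_card_of_injective ψ hψ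
  have h6 := card_eq_card_quotient_mul_card_subgroup E'
  rw [Nat.card_congr (subgroupOfEquivOfLe hEN).toEquiv, P.card] at h6
  omega

/-- Subgroups normalizing `E`. -/
theorem bound_normal (H : Subgroup S) (hH : H ≤ normalizer (E : Set S)) {X : Type*} [Group X]
    [Finite X] (f : H →* X) (hf : Function.Surjective f) (hX : ∀ a : X, a * a = 1) :
    Nat.card X ≤ 16 := by
  classical
  by_cases hHE : H ≤ E
  · refine (Nat.card_le_card_of_surjective f hf).trans ?_
    rw [← P.card]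
    exact Nat.le_of_dvd Nat.card_pos (card_dvd_of_le hHE)
  obtain ⟨h1, hh1, h1E⟩ := SetLike.not_le_iff_exists.mp hHE
  set K : Subgroup H := E.subgroupOf H with hK
  have hin : ∀ k : K, h1 * ((k : H) : S) * h1⁻¹ ∈ E := fun k =>
    (mem_normalizer_iff.mp (hH hh1) _).mp k.2
  let δ : K →* K := MonoidHom.mk'
    (fun k => ⟨⟨h1, hh1⟩ * (k : H) * ⟨h1, hh1⟩⁻¹ * (k : H)⁻¹, by
      show h1 * ((k : H) : S) * h1⁻¹ * ((k : H) : S)⁻¹ ∈ E
      exact mul_mem (hin k) (inv_mem k.2)⟩) (by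
      intro a b
      refine Subtype.ext (Subtype.ext ?_)
      show h1 * (((a : H) : S) * (b : H)) * h1⁻¹ * (((a : H) : S) * (b : H))⁻¹ =
        h1 * (a : H) * h1⁻¹ * ((a : H) : S)⁻¹ * (h1 * (b : H) * h1⁻¹ * ((b : H) : S)⁻¹)
      have c : Commute ((a : H) : S)⁻¹ (h1 * ((b : H) : S) * h1⁻¹ * ((b : H) : S)⁻¹) :=
        P.commute (inv_mem a.2) (mul_mem (hin b) (inv_mem b.2))
      calc h1 * (((a : H) : S) * (b : H)) * h1⁻¹ * (((a : H) : S) * (b : H))⁻¹
          = h1 * (a : H) * h1⁻¹ * ((h1 * (b : H) * h1⁻¹ * ((b : H) : S)⁻¹) * ((a : H) : S)⁻¹) := by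
            group
        _ = _ := by rw [← c.eq]; group)
  have hle : δ.range ≤ (f.comp K.subtype).ker := by
    rintro _ ⟨k, rfl⟩
    show f (⟨h1, hh1⟩ * (k : H) * ⟨h1, hh1⟩⁻¹ * (k : H)⁻¹) = 1
    rw [map_mul, map_mul, map_mul, map_inv, map_inv, comm_of_exp_two hX (f ⟨h1, hh1⟩) (f (k : H))]
    group
  have hkerδ : Nat.card δ.ker ≤ 4 := by
    refine le_trans (Nat.card_le_card_of_injective
      (fun w : δ.ker => (⟨((w : K) : H), mem_inf.mpr ⟨(w : K).2, mem_centralizer_singleton_iff.mpr (by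
        have h : h1 * (((w : K) : H) : S) * h1⁻¹ * (((w : K) : H) : S)⁻¹ = 1 :=
          congrArg (fun t : K => ((t : H) : S)) (MonoidHom.mem_ker.mp w.2)
        rw [mul_inv_eq_one, mul_inv_eq_iff_eq_mul] at h
        exact h.symm)⟩⟩ : ↥(E ⊓ centralizer ({h1} : Set S))))
      (fun a b e => Subtype.ext (Subtype.ext (Subtype.ext
        (congrArg (fun t : ↥(E ⊓ centralizer ({h1} : Set S)) => (t : S)) e))))) (P.fix_le_four h1E)
  have hK4 : Nat.card (K.map f) ≤ 4 := by
    have := (card_range_le_ker δ (f.comp K.subtype) hle).trans hkerδ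
    rwa [MonoidHom.range_comp, range_subtype] at this
  obtain ⟨h2, hh2, hcov⟩ : ∃ h2 ∈ H, H ≤ E ⊔ (zpowers h1 ⊔ zpowers h2) := by
    by_cases h : H ≤ E ⊔ zpowers h1
    · exact ⟨1, one_mem H, h.trans (sup_le_sup_left le_sup_left E)⟩
    · obtain ⟨h2, hh2, h2L⟩ := SetLike.not_le_iff_exists.mp h
      refine ⟨h2, hh2, ?_⟩
      set L := E ⊔ (zpowers h1 ⊔ zpowers h2) with hL
      have hL1 : E < E ⊔ zpowers h1 := lt_of_le_not_ge le_sup_left
        fun hle => h1E (hle (mem_sup_right (mem_zpowers h1)))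
      have hL2 : E ⊔ zpowers h1 < L := lt_of_le_not_ge (sup_le_sup_left le_sup_left E)
        fun hle => h2L (hle (mem_sup_right (mem_sup_right (mem_zpowers h2))))
      have hLN : L ≤ normalizer (E : Set S) :=
        sup_le le_normalizer (sup_le (zpowers_le.mpr (hH hh1)) (zpowers_le.mpr (hH hh2)))
      have a1 := two_mul_card_le hL1
      have a2 := two_mul_card_le hL2
      rw [P.card] at a1
      have := eq_of_le_of_card_ge hLN (P.card_normalizer.trans (by omega))
      rw [this]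
      exact hH
  refine card_le_of_gen hX (K.map f) (f ⟨h1, hh1⟩) (f ⟨h2, hh2⟩) 4 hK4
    (eq_top_iff.mpr fun y _ => ?_)
  obtain ⟨u, rfl⟩ := hf y
  have hWH : zpowers h1 ⊔ zpowers h2 ≤ H := sup_le (zpowers_le.mpr hh1) (zpowers_le.mpr hh2)
  obtain ⟨k, hk, l, hl, e⟩ := mem_sup_prod (hWH.trans hH) (hcov u.2)
  have hkH : k ∈ H := by
    rw [show k = (u : S) * l⁻¹ by rw [e]; group]
    exact mul_mem u.2 (inv_mem (hWH hl))
  rw [show u = (⟨k, hkH⟩ : H) * ⟨l, hWH hl⟩ from Subtype.ext e, map_mul]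
  refine mul_mem (mem_sup_left (mem_sup_left (mem_map_of_mem f hk))) ?_
  have hmap : (⟨l, hWH hl⟩ : H) ∈ zpowers (⟨h1, hh1⟩ : H) ⊔ zpowers ⟨h2, hh2⟩ := by
    have hmm : (zpowers (⟨h1, hh1⟩ : H) ⊔ zpowers ⟨h2, hh2⟩).map H.subtype =
        zpowers h1 ⊔ zpowers h2 := by
      rw [Subgroup.map_sup, MonoidHom.map_zpowers, MonoidHom.map_zpowers]; rfl
    obtain ⟨m, hm, hm'⟩ := Subgroup.mem_map.mp (hmm.symm ▸ hl)
    have : m = ⟨l, hWH hl⟩ := Subtype.ext hm'
    exact this ▸ hm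
  have h := mem_map_of_mem f hmap
  rw [Subgroup.map_sup, MonoidHom.map_zpowers, MonoidHom.map_zpowers] at h
  exact sup_le_sup (le_sup_right : zpowers (f ⟨h1, hh1⟩) ≤ _) le_rfl h

end Elem

end Cfsg.Agent.Harada1235
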