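import Cfsg.Prelude.Def_CaseTheorems
import Mathlib

/-! Sectional rank is seen inside a Sylow 2-subgroup. -/

set_option autoImplicit false
set_option linter.all false

namespace Cfsg.Agent.Harada1235

open Subgroup

universe u

variable {G : Type u} [Group G] [Finite G]

theorem sectional_of_sylow (Sy : Sylow 2 G)
    (h : ∀ (K : Subgroup ↥(Sy : Subgroup G)) (X : Type u) (_ : Group X) (_ : Finite X)
      (f : K →* X), Function.Surjective f → (∀ a : X, a * a = 1) → Nat.card X ≤ 16) :
    Cfsg.SectionalPRankLE 2 4 G := by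
  haveI : Fact (Nat.Prime 2) := ⟨Nat.prime_two⟩
  intro H N _ A hAc hA
  have hA2 : IsPGroup 2 A := fun a => ⟨1, Subtype.ext (by simpa using hA a a.2)⟩
  let π : ↥(A.comap (QuotientGroup.mk' N)) →* A := MonoidHom.mk'
    (fun u => ⟨QuotientGroup.mk' N u, u.2⟩) (fun a b => Subtype.ext (map_mul _ _ _))
  have hπ : Function.Surjective π := fun a => by
    obtain ⟨u, hu⟩ := QuotientGroup.mk'_surjective N (a : H ⧸ N)
    exact ⟨⟨u, show QuotientGroup.mk' N u ∈ A by rw [hu]; exact a.2⟩, Subtype.ext hu⟩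
  let P : Sylow 2 ↥(A.comap (QuotientGroup.mk' N)) := default
  have hPtop : (P : Subgroup ↥(A.comap (QuotientGroup.mk' N))).map π = ⊤ := by
    have h1 : ¬ 2 ∣ ((P : Subgroup ↥(A.comap (QuotientGroup.mk' N))).map π).index :=
      fun hd => P.not_dvd_index (hd.trans (index_map_dvd _ hπ))
    obtain ⟨n, hn⟩ := hA2.index ((P : Subgroup ↥(A.comap (QuotientGroup.mk' N))).map π)
    rcases Nat.eq_zero_or_pos n with h0 | h0
    · rw [← index_eq_one, hn, h0, pow_zero]
    · exact absurd (hn ▸ dvd_pow_self 2 (by omega)) h1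
  let ι : ↥(P : Subgroup ↥(A.comap (QuotientGroup.mk' N))) →* G :=
    (H.subtype.comp (A.comap (QuotientGroup.mk' N)).subtype).comp (Subgroup.subtype _)
  have hι : Function.Injective ι := fun a b e => Subtype.ext (Subtype.ext (Subtype.ext e))
  obtain ⟨Q, hQ⟩ := (P.2.of_surjective ι.rangeRestrict ι.rangeRestrict_surjective).exists_le_sylow
  obtain ⟨g, hg⟩ := MulAction.exists_smul_eq G Q Sy
  have hgm : ∀ p, g * ι p * g⁻¹ ∈ (Sy : Subgroup G) := by
    intro p
    rw [← hg, Sylow.coe_subgroup_smul]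
    have := smul_mem_pointwise_smul (ι p) (MulAut.conj g) (Q : Subgroup G) (hQ ⟨p, rfl⟩)
    simpa [MulAut.smul_def] using this
  let κ : ↥(P : Subgroup ↥(A.comap (QuotientGroup.mk' N))) →* ↥(Sy : Subgroup G) :=
    MonoidHom.mk' (fun p => ⟨g * ι p * g⁻¹, hgm p⟩) (fun a b => Subtype.ext (by
      show g * ι (a * b) * g⁻¹ = g * ι a * g⁻¹ * (g * ι b * g⁻¹)
      rw [map_mul]; group))
  have hκ : Function.Injective κ := fun a b e =>
    hι (mul_left_cancel (mul_right_cancel (congrArg Subtype.val e)))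
  have hsur : Function.Surjective (π.comp (P : Subgroup ↥(A.comap (QuotientGroup.mk' N))).subtype) :=
    fun a => by
      obtain ⟨u, hu, e⟩ := mem_map.mp (hPtop.symm ▸ mem_top a : a ∈ _)
      exact ⟨⟨u, hu⟩, e⟩
  exact h κ.range A inferInstance inferInstance
    ((π.comp (Subgroup.subtype _)).comp (MonoidHom.ofInjective hκ).symm.toMonoidHom)
    (hsur.comp (MonoidHom.ofInjective hκ).symm.surjective)
    (fun a => Subtype.ext (show (a : H ⧸ N) * a = 1 by rw [← pow_two]; exact hA a a.2))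

end Cfsg.Agent.Harada1235
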