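import Cfsg.Agent.Lib.Recog.Harada1235.Four
import Cfsg.Agent.Lib.Basics.Tools

/-! The case in which `E` is not normal. -/

set_option autoImplicit false
set_option linter.all false

namespace Cfsg.Agent.Harada1235

open Subgroup

variable {S : Type*} [Group S] [Finite S]

theorem mem_normalizer_of_conj_le {E : Subgroup S} {g : S} (h : ∀ e ∈ E, g * e * g⁻¹ ∈ E) :
    g ∈ normalizer (E : Set S) := by
  have heq : E.map (MulAut.conj g).toMonoidHom = E := by
    refine eq_of_le_of_card_ge ?_ (le_of_eq ?_)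
    · rintro _ ⟨e, he, rfl⟩
      simpa using h e he
    · exact (card_map_of_injective (MulAut.conj g).injective).symm
  refine mem_normalizer_iff.mpr fun e => ⟨h e, fun he => ?_⟩
  rw [← heq] at he
  obtain ⟨a, ha, e'⟩ := he
  simp only [MulEquiv.coe_toMonoidHom, MulAut.conj_apply] at e'
  rwa [show e = a from mul_left_cancel (mul_right_cancel e'.symm)]

/-- The data of the swapped partner of `E`. -/
structure Swap (E B E2 : Subgroup S) : Prop extends Elem E B where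
  le : E2 ≤ normalizer (E : Set S)
  exp2 : ∀ h ∈ E2, h * h = 1
  cardF : Nat.card ↥(E ⊓ E2) = 4
  dec : ∀ u ∈ normalizer (E : Set S), ∃ e ∈ E, ∃ h ∈ E2, u = e * h
  normal2 : ∀ u ∈ normalizer (E : Set S), ∀ h ∈ E2, u * h * u⁻¹ ∈ E2
  fix : ∀ h ∈ E2, h ∉ E → ∀ e ∈ E, e * h = h * e → e ∈ E2
  swap : ∀ v, v ∉ normalizer (E : Set S) →
    (∀ e ∈ E, v * e * v⁻¹ ∈ E2) ∧ (∀ h ∈ E2, v * h * v⁻¹ ∈ E)
  index : ∀ v, v ∉ normalizer (E : Set S) → ∀ w, w ∉ normalizer (E : Set S) →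
    v⁻¹ * w ∈ normalizer (E : Set S)

variable {E B : Subgroup S}

namespace Elem

variable (P : Elem E B)
include P

theorem exists_swap (hne : normalizer (E : Set S) ≠ ⊤) : ∃ E2, Swap E B E2 := by
  classical
  set N := normalizer (E : Set S) with hN
  haveI : Fact (Nat.Prime 2) := ⟨Nat.prime_two⟩
  haveI : Group.IsNilpotent S := P.two.isNilpotent
  set N1 := normalizer (N : Set S) with hN1
  obtain ⟨y, hy, hyN⟩ := SetLike.exists_of_lt
    (normalizerCondition_of_isNilpotent N (lt_top_iff_ne_top.mpr hne))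
  have hNN1 : N ≤ N1 := le_normalizer
  have hEN : E ≤ N := le_normalizer
  have hconjN : ∀ g ∈ N1, ∀ u ∈ N, g * u * g⁻¹ ∈ N := fun g hg u hu =>
    (mem_normalizer_iff.mp hg u).mp hu
  set E2 := E.map (MulAut.conj y).toMonoidHom with hE2
  have hmem2 : ∀ e ∈ E, y * e * y⁻¹ ∈ E2 := fun e he =>
    mem_map.mpr ⟨e, he, by simp⟩
  have hdest2 : ∀ h ∈ E2, ∃ e ∈ E, h = y * e * y⁻¹ := by
    rintro _ ⟨e, he, rfl⟩
    exact ⟨e, he, by simp⟩
  have hle : E2 ≤ N := fun h hh => by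
    obtain ⟨e, he, rfl⟩ := hdest2 h hh
    exact hconjN y hy e (hEN he)
  have hexp2 : ∀ h ∈ E2, h * h = 1 := fun h hh => by
    obtain ⟨e, he, rfl⟩ := hdest2 h hh
    rw [show y * e * y⁻¹ * (y * e * y⁻¹) = y * (e * e) * y⁻¹ by group, P.exp e he]
    group
  have hcard2 : Nat.card E2 = 16 := by
    rw [hE2, card_map_of_injective (MulAut.conj y).injective, P.card]
  obtain ⟨h0, hh0, hh0E⟩ : ∃ h0 ∈ E2, h0 ∉ E := by
    by_contra hall
    push Not at hall
    exact hyN (mem_normalizer_of_conj_le fun e he => hall _ (hmem2 e he))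
  have hcomm2 : ∀ a ∈ E2, ∀ b ∈ E2, a * b = b * a := fun a ha b hb => by
    have := comm_of_exp_two (X := E2) (fun c => Subtype.ext (hexp2 c c.2)) ⟨a, ha⟩ ⟨b, hb⟩
    exact congrArg Subtype.val this
  have hFle : Nat.card ↥(E ⊓ E2) ≤ 4 := by
    refine le_trans (Nat.le_of_dvd Nat.card_pos (card_dvd_of_le ?_)) (P.fix_le_four hh0E)
    exact le_inf inf_le_left fun w hw =>
      mem_centralizer_singleton_iff.mpr (hcomm2 w (mem_inf.mp hw).2 h0 hh0)
  have hsupN : E ⊔ E2 ≤ N := sup_le hEN hle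
  have hmul := Cfsg.Agent.Basics.card_mul_card_eq_card_sup_mul_card_inf (N := E) (H := E2) hle
  have hsup64 : Nat.card ↥(E ⊔ E2) ≤ 64 :=
    (Nat.le_of_dvd Nat.card_pos (card_dvd_of_le hsupN)).trans P.card_normalizer
  rw [P.card, hcard2] at hmul
  have hcardF : Nat.card ↥(E ⊓ E2) = 4 := by
    by_contra hc
    have : Nat.card ↥(E ⊔ E2) * Nat.card ↥(E ⊓ E2) ≤ 64 * 3 :=
      Nat.mul_le_mul hsup64 (by omega)
    omega
  have hsupeq : E ⊔ E2 = N := by
    rw [hcardF] at hmul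
    exact eq_of_le_of_card_ge hsupN (P.card_normalizer.trans (by omega))
  have hdec : ∀ u ∈ N, ∃ e ∈ E, ∃ h ∈ E2, u = e * h := fun u hu =>
    mem_sup_prod hle (hsupeq.symm ▸ hu : u ∈ E ⊔ E2)
  have hnormal2 : ∀ u ∈ N, ∀ h ∈ E2, u * h * u⁻¹ ∈ E2 := fun u hu h hh => by
    obtain ⟨e, he, rfl⟩ := hdest2 h hh
    have hu' : y⁻¹ * u * y ∈ N := (mem_normalizer_iff''.mp hy u).mp hu
    have := hmem2 _ ((mem_normalizer_iff.mp hu' e).mp he)
    rwa [show y * (y⁻¹ * u * y * e * (y⁻¹ * u * y)⁻¹) * y⁻¹ = u * (y * e * y⁻¹) * u⁻¹ by group]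
      at this
  have hfix : ∀ h ∈ E2, h ∉ E → ∀ e ∈ E, e * h = h * e → e ∈ E2 := by
    intro h hh hhE e he hc
    have hsub : E ⊓ E2 ≤ E ⊓ centralizer ({h} : Set S) :=
      le_inf inf_le_left fun w hw =>
        mem_centralizer_singleton_iff.mpr (hcomm2 w (mem_inf.mp hw).2 h hh)
    have heq := eq_of_le_of_card_ge hsub ((P.fix_le_four hhE).trans hcardF.ge)
    have hm : e ∈ E ⊓ centralizer ({h} : Set S) :=
      mem_inf.mpr ⟨he, mem_centralizer_singleton_iff.mpr hc⟩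
    exact (mem_inf.mp (heq.symm ▸ hm : e ∈ E ⊓ E2)).2
  -- involutions of `N`
  have hinv : ∀ u ∈ N, u * u = 1 → u ∈ E ∨ u ∈ E2 := by
    intro u hu hu2
    obtain ⟨e, he, h, hh, rfl⟩ := hdec u hu
    by_cases hhE : h ∈ E
    · exact Or.inl (mul_mem he hhE)
    refine Or.inr (mul_mem (hfix h hh hhE e he ?_) hh)
    have h1 : e * h = (e * h)⁻¹ := (inv_eq_of_mul_eq_one_right hu2).symm
    rw [mul_inv_rev, inv_eq_of_mul_eq_one_right (hexp2 h hh), P.inv_eq he] at h1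
    exact h1
  have hin : ∀ U : Subgroup S, U ≤ N → (∀ a ∈ U, a * a = 1) → U ≤ E ∨ U ≤ E2 := by
    intro U hU hU2
    by_contra hcon
    push Not at hcon
    obtain ⟨a, ha, haE⟩ := SetLike.not_le_iff_exists.mp hcon.1
    obtain ⟨b, hb, hbE2⟩ := SetLike.not_le_iff_exists.mp hcon.2
    have haE2 := (hinv a (hU ha) (hU2 a ha)).resolve_left haE
    have hbE := (hinv b (hU hb) (hU2 b hb)).resolve_right hbE2
    rcases hinv _ (hU (mul_mem ha hb)) (hU2 _ (mul_mem ha hb)) with h | h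
    · exact haE ((mul_mem_cancel_right hbE).mp h)
    · exact hbE2 ((mul_mem_cancel_left haE2).mp h)
  -- action of `N1`
  have hconj : ∀ w : S, (∀ e ∈ E, w * e * w⁻¹ ∈ N) →
      (∀ e ∈ E, w * e * w⁻¹ ∈ E) ∨ (∀ e ∈ E, w * e * w⁻¹ ∈ E2) := by
    intro w hw
    rcases hin (E.map (MulAut.conj w).toMonoidHom)
      (by rintro _ ⟨e, he, rfl⟩; simpa using hw e he)
      (by
        rintro _ ⟨e, he, rfl⟩
        rw [← map_mul, P.exp e he, map_one]) with h | h
    · exact Or.inl fun e he => h (mem_map.mpr ⟨e, he, by simp⟩)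
    · exact Or.inr fun e he => h (mem_map.mpr ⟨e, he, by simp⟩)
  have hswap1 : ∀ w ∈ N1, w ∉ N → ∀ e ∈ E, w * e * w⁻¹ ∈ E2 := fun w hw hwN =>
    (hconj w fun e he => hconjN w hw e (hEN he)).resolve_left
      fun h => hwN (mem_normalizer_of_conj_le h)
  have heq2 : ∀ w, (∀ e ∈ E, w * e * w⁻¹ ∈ E2) → ∀ h ∈ E2, ∃ e ∈ E, h = w * e * w⁻¹ := by
    intro w hw h hh
    have : E.map (MulAut.conj w).toMonoidHom = E2 := by
      refine eq_of_le_of_card_ge ?_ (le_of_eq ?_)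
      · rintro _ ⟨e, he, rfl⟩
        simpa using hw e he
      · exact hcard2.trans (P.card.symm.trans
          (card_map_of_injective (f := (MulAut.conj w).toMonoidHom) (MulAut.conj w).injective).symm)
    rw [← this] at hh
    obtain ⟨e, he, e'⟩ := hh
    exact ⟨e, he, by simpa using e'.symm⟩
  have hindex1 : ∀ v w, (∀ e ∈ E, v * e * v⁻¹ ∈ E2) → (∀ e ∈ E, w * e * w⁻¹ ∈ E2) →
      v⁻¹ * w ∈ N := by
    intro v w hv hw
    refine mem_normalizer_of_conj_le fun e he => ?_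
    obtain ⟨a, ha, e'⟩ := heq2 v hv _ (hw e he)
    rw [show v⁻¹ * w * e * (v⁻¹ * w)⁻¹ = v⁻¹ * (w * e * w⁻¹) * v by group, e']
    simpa [mul_assoc] using ha
  have hswap2 : ∀ w ∈ N1, w ∉ N → ∀ h ∈ E2, w * h * w⁻¹ ∈ E := by
    intro w hw hwN h hh
    have hwi : w⁻¹ ∉ N := fun h => hwN (inv_mem_iff.mp h)
    obtain ⟨e, he, rfl⟩ := heq2 w⁻¹ (hswap1 _ (inv_mem hw) hwi) h hh
    simpa [mul_assoc] using he
  -- `N1` is everything
  have hN1top : N1 = ⊤ := by
    by_contra hne1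
    obtain ⟨w, hw, hwN1⟩ := SetLike.exists_of_lt
      (normalizerCondition_of_isNilpotent N1 (lt_top_iff_ne_top.mpr hne1))
    have hw' : ∀ e ∈ E, w * e * w⁻¹ ∈ N1 := fun e he =>
      (mem_normalizer_iff.mp hw e).mp (hNN1 (hEN he))
    by_cases hall : ∀ e ∈ E, w * e * w⁻¹ ∈ N
    · rcases hconj w hall with h | h
      · exact hwN1 (hNN1 (mem_normalizer_of_conj_le h))
      · have h1 := hindex1 y w hmem2 h
        refine hwN1 ?_
        have := mul_mem hy (hNN1 h1)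
        rwa [mul_inv_cancel_left] at this
    push Not at hall
    obtain ⟨e0, he0, hv⟩ := hall
    set v := w * e0 * w⁻¹ with hvdef
    set E3 := E.map (MulAut.conj w).toMonoidHom with hE3
    have hE31 : ∀ a ∈ E3, a ∈ N1 := by
      rintro _ ⟨e, he, rfl⟩
      simpa using hw' e he
    have hv3 : v ∈ E3 := mem_map.mpr ⟨e0, he0, by simp [hvdef]⟩
    have hcard3 : Nat.card E3 = 16 := by
      rw [hE3, card_map_of_injective (MulAut.conj w).injective, P.card]
    have hexp3 : ∀ a ∈ E3, a * a = 1 := by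
      rintro _ ⟨e, he, rfl⟩
      rw [← map_mul, P.exp e he, map_one]
    have hsplit : ∀ a : E3, (a : S) ∉ N → v⁻¹ * a ∈ N := fun a ha =>
      hindex1 v a (hswap1 v (hw' e0 he0) hv) (hswap1 a (hE31 a a.2) ha)
    let U := E3 ⊓ N
    let φ : E3 → Bool × U := fun a =>
      if ha : (a : S) ∈ N then (true, ⟨a, mem_inf.mpr ⟨a.2, ha⟩⟩)
      else (false, ⟨v⁻¹ * a, mem_inf.mpr ⟨mul_mem (inv_mem hv3) a.2, hsplit a ha⟩⟩)
    have hφ : Function.Injective φ := by
      intro a b hab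
      simp only [φ] at hab
      split_ifs at hab with ha hb hb
      · exact Subtype.ext (congrArg (fun t : Bool × U => (t.2 : S)) hab)
      · exact absurd (congrArg Prod.fst hab) (by simp)
      · exact absurd (congrArg Prod.fst hab) (by simp)
      · exact Subtype.ext (mul_left_cancel (congrArg (fun t : Bool × U => (t.2 : S)) hab))
    have hU8 : 16 ≤ 2 * Nat.card U := by
      have := Nat.card_le_card_of_injective φ hφ
      rw [hcard3, Nat.card_prod, Nat.card_eq_fintype_card (α := Bool), Fintype.card_bool] at this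
      exact this
    have hUF : U ≤ E ⊓ E2 := by
      have hvU : ∀ a ∈ U, v * a * v⁻¹ = a := fun a ha => by
        have h := comm_of_exp_two (X := E3) (fun c => Subtype.ext (hexp3 c c.2)) ⟨v, hv3⟩
          ⟨a, (mem_inf.mp ha).1⟩
        rw [show v * a = a * v from congrArg Subtype.val h, mul_inv_cancel_right]
      rcases hin U inf_le_right (fun a ha => hexp3 a (mem_inf.mp ha).1) with h | h
      · exact fun a ha => mem_inf.mpr ⟨h ha, by
          rw [← hvU a ha]; exact hswap1 v (hw' e0 he0) hv a (h ha)⟩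
      · exact fun a ha => mem_inf.mpr ⟨by
          rw [← hvU a ha]; exact hswap2 v (hw' e0 he0) hv a (h ha), h ha⟩
    have := Nat.le_of_dvd Nat.card_pos (card_dvd_of_le hUF)
    rw [hcardF] at this
    omega
  have hall1 : ∀ v : S, v ∈ N1 := fun v => hN1top ▸ mem_top v
  exact ⟨E2, { toElem := P
               le := hle
               exp2 := hexp2
               cardF := hcardF
               dec := hdec
               normal2 := hnormal2
               fix := hfix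
               swap := fun v hv => ⟨hswap1 v (hall1 v) hv, hswap2 v (hall1 v) hv⟩
               index := fun v hv w hw =>
                 hindex1 v w (hswap1 v (hall1 v) hv) (hswap1 w (hall1 w) hw) }⟩

end Elem

namespace Swap

variable {E2 : Subgroup S} (P : Swap E B E2)
include P

theorem bound (H : Subgroup S) {X : Type*} [Group X] [Finite X] (f : H →* X)
    (hf : Function.Surjective f) (hX : ∀ a : X, a * a = 1) : Nat.card X ≤ 16 := by
  classical
  set N := normalizer (E : Set S) with hN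
  by_cases hHN : H ≤ N
  · exact P.toElem.bound_normal H hHN f hf hX
  obtain ⟨v0, hv0, hv0N⟩ := SetLike.not_le_iff_exists.mp hHN
  obtain ⟨hv1, hv2⟩ := P.swap v0 hv0N
  have hEN : E ≤ N := le_normalizer
  have hc2 : ∀ a ∈ E2, ∀ b ∈ E2, a * b = b * a := fun a ha b hb => by
    have := comm_of_exp_two (X := E2) (fun c => Subtype.ext (P.exp2 c c.2)) ⟨a, ha⟩ ⟨b, hb⟩
    exact congrArg Subtype.val this
  have hFc : ∀ w ∈ E ⊓ E2, ∀ u ∈ N, u * w = w * u := by
    intro w hw u hu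
    obtain ⟨e, he, h, hh, rfl⟩ := P.dec u hu
    rw [mul_assoc, hc2 h hh w (mem_inf.mp hw).2, ← mul_assoc,
      (P.toElem.commute he (mem_inf.mp hw).1).eq, mul_assoc]
  set F : Subgroup N := (E ⊓ E2).subgroupOf N with hF
  haveI hFn : F.Normal := ⟨fun w hw u => by
    have h := hFc (w : S) hw u u.2
    show (u : S) * w * (u : S)⁻¹ ∈ E ⊓ E2
    rw [h, mul_inv_cancel_right]
    exact hw⟩
  set π := QuotientGroup.mk' F with hπ
  have hπ1 : ∀ u : N, π u = 1 ↔ (u : S) ∈ E ⊓ E2 := fun u =>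
    (QuotientGroup.eq_one_iff u).trans mem_subgroupOf
  -- the quotient has exponent two
  have hQ : ∀ q : N ⧸ F, q * q = 1 := by
    intro q
    obtain ⟨u, rfl⟩ := QuotientGroup.mk'_surjective F q
    rw [← map_mul, hπ1]
    obtain ⟨e, he, h, hh, hu⟩ := P.dec u u.2
    push_cast
    rw [hu, mul_assoc, show h * (e * h) = h * e * h⁻¹ by
      rw [inv_eq_of_mul_eq_one_right (P.exp2 h hh), mul_assoc]]
    refine mem_inf.mpr ⟨mul_mem he ((mem_normalizer_iff.mp (P.le hh) e).mp he), ?_⟩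
    have h1 := mul_mem (P.normal2 e (hEN he) h hh) (inv_mem hh)
    rw [show e * h * e⁻¹ * h⁻¹ = e * (h * e * h⁻¹) by
      rw [P.toElem.inv_eq he, mul_assoc e h e, mul_assoc]] at h1
    exact h1
  have hQc := comm_of_exp_two hQ
  set H0 : Subgroup H := N.subgroupOf H with hH0
  let ι : H0 →* N := MonoidHom.mk' (fun h => ⟨((h : H) : S), h.2⟩) (fun _ _ => rfl)
  set π0 : H0 →* N ⧸ F := π.comp ι with hπ0
  set φ : H0 →* X := f.comp H0.subtype with hφ
  have hconjN : ∀ u ∈ N, v0 * u * v0⁻¹ ∈ N := by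
    intro u hu
    obtain ⟨e, he, h, hh, rfl⟩ := P.dec u hu
    rw [show v0 * (e * h) * v0⁻¹ = (v0 * e * v0⁻¹) * (v0 * h * v0⁻¹) by group]
    exact mul_mem (P.le (hv1 e he)) (hEN (hv2 h hh))
  let σ : H0 →* H0 := MonoidHom.mk'
    (fun h => ⟨⟨v0, hv0⟩ * (h : H) * ⟨v0, hv0⟩⁻¹, hconjN _ h.2⟩)
    (fun a b => Subtype.ext (by
      show (⟨v0, hv0⟩ : H) * ((a : H) * b) * ⟨v0, hv0⟩⁻¹ =
        ⟨v0, hv0⟩ * (a : H) * ⟨v0, hv0⟩⁻¹ * (⟨v0, hv0⟩ * (b : H) * ⟨v0, hv0⟩⁻¹)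
      group))
  let δ : H0 →* N ⧸ F := MonoidHom.mk' (fun h => π0 (σ h) * π0 h) (fun a b => by
    show π0 (σ (a * b)) * π0 (a * b) = π0 (σ a) * π0 a * (π0 (σ b) * π0 b)
    haveI : Std.Commutative (α := N ⧸ F) (· * ·) := ⟨hQc⟩
    rw [map_mul σ, map_mul π0, map_mul π0]
    ac_rfl)
  have hδker : ∀ h : H0, h ∈ δ.ker ↔ π0 (σ h) = π0 h := by
    intro h
    rw [MonoidHom.mem_ker]
    show π0 (σ h) * π0 h = 1 ↔ _
    rw [mul_eq_one_iff_eq_inv, inv_eq_of_mul_eq_one_right (hQ _)]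
  have hrange : δ.range ≤ φ.ker.map π0 := by
    rintro _ ⟨h, rfl⟩
    refine mem_map.mpr ⟨σ h * h, MonoidHom.mem_ker.mpr ?_, map_mul _ _ _⟩
    show f (⟨v0, hv0⟩ * (h : H) * ⟨v0, hv0⟩⁻¹ * (h : H)) = 1
    rw [map_mul, map_mul, map_mul, map_inv, comm_of_exp_two hX (f ⟨v0, hv0⟩) (f (h : H)),
      mul_inv_cancel_right, hX]
  have hKker : π0.ker ≤ δ.ker := by
    intro h hh
    have h1 : ((h : H) : S) ∈ E ⊓ E2 := (hπ1 (ι h)).mp hh
    rw [hδker]
    refine Eq.trans ?_ (MonoidHom.mem_ker.mp hh).symm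
    exact (hπ1 (ι (σ h))).mpr
      (mem_inf.mpr ⟨hv2 _ (mem_inf.mp h1).2, hv1 _ (mem_inf.mp h1).1⟩)
  -- counting
  have c1 := card_mul_index δ.ker
  have c2 := card_mul_index φ.ker
  rw [index_ker] at c1 c2
  have c3 := card_inf_ker_mul π0 δ.ker
  rw [inf_eq_right.mpr hKker] at c3
  have c4 := card_inf_ker_mul π0 φ.ker
  have c5 : Nat.card δ.range ≤ Nat.card (φ.ker.map π0) :=
    Nat.le_of_dvd Nat.card_pos (card_dvd_of_le hrange)
  have hK4 : Nat.card π0.ker ≤ 4 := by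
    rw [← P.cardF]
    exact Nat.card_le_card_of_injective
      (fun h : π0.ker => (⟨(((h : H0) : H) : S), (hπ1 (ι h)).mp h.2⟩ : ↥(E ⊓ E2)))
      (fun a b e => Subtype.ext (Subtype.ext (Subtype.ext
        (congrArg (fun t : ↥(E ⊓ E2) => (t : S)) e))))
  -- fixed points of the quotient
  let g : E →* N ⧸ F := MonoidHom.mk'
    (fun e => π ⟨e, hEN e.2⟩ * π ⟨v0 * (e : S) * v0⁻¹, P.le (hv1 e e.2)⟩) (fun a b => by
      show π ⟨((a * b : E) : S), _⟩ * π ⟨v0 * ((a * b : E) : S) * v0⁻¹, _⟩ = _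
      rw [show (⟨((a * b : E) : S), hEN (a * b).2⟩ : N) = ⟨a, hEN a.2⟩ * ⟨b, hEN b.2⟩ from rfl,
        show (⟨v0 * ((a * b : E) : S) * v0⁻¹, P.le (hv1 _ (a * b).2)⟩ : N) =
          ⟨v0 * (a : S) * v0⁻¹, P.le (hv1 a a.2)⟩ * ⟨v0 * (b : S) * v0⁻¹, P.le (hv1 b b.2)⟩ from
          Subtype.ext (by push_cast; group), map_mul, map_mul, mul_assoc,
        ← mul_assoc (π ⟨(b : S), _⟩), hQc (π ⟨(b : S), _⟩) (π ⟨v0 * (a : S) * v0⁻¹, _⟩)]
      simp only [mul_assoc])
  have hg4 : Nat.card g.range ≤ 4 := by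
    have h1 := card_mul_index g.ker
    rw [index_ker, P.card] at h1
    have h2 : 4 ≤ Nat.card g.ker := by
      rw [← P.cardF]
      exact Nat.card_le_card_of_injective
        (fun w : ↥(E ⊓ E2) => (⟨⟨w, (mem_inf.mp w.2).1⟩, MonoidHom.mem_ker.mpr (by
          show π _ * π _ = 1
          rw [(hπ1 _).mpr w.2, (hπ1 _).mpr (mem_inf.mpr
            ⟨hv2 _ (mem_inf.mp w.2).2, hv1 _ (mem_inf.mp w.2).1⟩), one_mul])⟩ : g.ker))
        (fun a b e => Subtype.ext (congrArg (fun t : g.ker => ((t : E) : S)) e))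
    by_contra hc
    have : 4 * 5 ≤ Nat.card g.ker * Nat.card g.range := Nat.mul_le_mul h2 (by omega)
    omega
  have hfixmap : δ.ker.map π0 ≤ g.range := by
    rintro _ ⟨h, hh, rfl⟩
    have hh' := (hδker h).mp hh
    obtain ⟨e, he, k, hk, hek⟩ := P.dec ((h : H) : S) h.2
    have heN : ι h = ⟨e, hEN he⟩ * ⟨k, P.le hk⟩ := Subtype.ext hek
    have hσN : ι (σ h) = ⟨v0 * e * v0⁻¹, P.le (hv1 e he)⟩ * ⟨v0 * k * v0⁻¹, hEN (hv2 k hk)⟩ :=
      Subtype.ext (by
        show v0 * ((h : H) : S) * v0⁻¹ = v0 * e * v0⁻¹ * (v0 * k * v0⁻¹)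
        rw [hek]; group)
    have hrel : π (ι (σ h) * (ι h)⁻¹) = 1 := by
      rw [map_mul, map_inv, mul_inv_eq_one]
      exact hh'
    refine ⟨⟨e, he⟩, ?_⟩
    show π ⟨e, hEN he⟩ * π ⟨v0 * e * v0⁻¹, _⟩ = π (ι h)
    rw [heN, map_mul]
    refine congrArg (π ⟨e, hEN he⟩ * ·) ?_
    -- `v0 e v0⁻¹ k⁻¹` lies in `E2`, and is congruent to an element of `E`
    have hmem : (⟨v0 * e * v0⁻¹, P.le (hv1 e he)⟩ : N) * (⟨k, P.le hk⟩ : N)⁻¹ ∈ F := by
      show v0 * e * v0⁻¹ * k⁻¹ ∈ E ⊓ E2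
      refine mem_inf.mpr ⟨?_, mul_mem (hv1 e he) (inv_mem hk)⟩
      have h1 : π (⟨v0 * e * v0⁻¹, P.le (hv1 e he)⟩ * ⟨v0 * k * v0⁻¹, hEN (hv2 k hk)⟩ *
          (⟨k, P.le hk⟩⁻¹ * ⟨e, hEN he⟩⁻¹)) = 1 := by
        rw [← hσN, ← mul_inv_rev, ← heN]
        exact hrel
      rw [map_mul, map_mul, map_mul, hQc (π ⟨k, P.le hk⟩⁻¹), map_inv, map_inv] at h1
      have h2 : π (⟨v0 * e * v0⁻¹, P.le (hv1 e he)⟩ * ⟨k, P.le hk⟩⁻¹ *
          (⟨v0 * k * v0⁻¹, hEN (hv2 k hk)⟩ * ⟨e, hEN he⟩⁻¹)) = 1 := by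
        rw [map_mul, map_mul, map_mul, map_inv, map_inv, ← h1]
        simp only [mul_assoc]
        congr 1
        rw [← mul_assoc, hQc (π ⟨k, P.le hk⟩)⁻¹, mul_assoc,
          hQc (π ⟨k, P.le hk⟩)⁻¹ (π ⟨e, hEN he⟩)⁻¹]
      have h3 := (mem_inf.mp ((hπ1 _).mp h2)).1
      exact (mul_mem_cancel_right (mul_mem (hv2 k hk) (inv_mem he))).mp h3
    have h4 := MonoidHom.mem_ker.mp (show _ ∈ π.ker by rw [hπ, QuotientGroup.ker_mk']; exact hmem)
    rw [map_mul, map_inv, mul_inv_eq_one] at h4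
    exact h4.symm ▸ rfl
  have hfix4 : Nat.card (δ.ker.map π0) ≤ 4 :=
    (Nat.le_of_dvd Nat.card_pos (card_dvd_of_le hfixmap)).trans hg4
  -- the restriction to `H0`
  have hφ8 : Nat.card φ.range ≤ 8 := by
    have key : Nat.card φ.range * Nat.card ↥(φ.ker ⊓ π0.ker) ≤
        Nat.card π0.ker * Nat.card (δ.ker.map π0) := by
      refine Nat.le_of_mul_le_mul_right ?_ (Nat.card_pos : 0 < Nat.card δ.range)
      calc Nat.card φ.range * Nat.card ↥(φ.ker ⊓ π0.ker) * Nat.card δ.range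
          ≤ Nat.card φ.range * Nat.card ↥(φ.ker ⊓ π0.ker) * Nat.card (φ.ker.map π0) :=
            Nat.mul_le_mul_left _ c5
        _ = Nat.card φ.ker * Nat.card φ.range := by
            rw [mul_assoc, c4, mul_comm]
        _ = Nat.card δ.ker * Nat.card δ.range := by rw [c1, c2]
        _ = _ := by rw [c3]
    by_cases htriv : ∀ r ∈ δ.ker, π0 r = 1
    · have h1 : δ.ker.map π0 = ⊥ := by
        rw [Subgroup.map_eq_bot_iff]
        exact fun r hr => MonoidHom.mem_ker.mpr (htriv r hr)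
      rw [h1, card_bot, mul_one] at key
      have : Nat.card φ.range ≤ Nat.card φ.range * Nat.card ↥(φ.ker ⊓ π0.ker) :=
        Nat.le_mul_of_pos_right _ Nat.card_pos
      omega
    push Not at htriv
    obtain ⟨r, hr, hr1⟩ := htriv
    have hr' := (hδker r).mp hr
    have hr2 : r * r ≠ 1 := by
      intro e
      have e' : ((r : H) : S) * (r : H) = 1 := congrArg (fun t : H0 => ((t : H) : S)) e
      obtain ⟨a, ha, b, hb, hab⟩ := P.dec ((r : H) : S) r.2
      have hin : ((r : H) : S) ∈ E ∨ ((r : H) : S) ∈ E2 := by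
        by_cases hbE : b ∈ E
        · exact Or.inl (hab ▸ mul_mem ha hbE)
        refine Or.inr (hab ▸ mul_mem (P.fix b hb hbE a ha ?_) hb)
        have h1 : a * b = (a * b)⁻¹ := (inv_eq_of_mul_eq_one_right (hab ▸ e')).symm
        rw [mul_inv_rev, inv_eq_of_mul_eq_one_right (P.exp2 b hb), P.toElem.inv_eq ha] at h1
        exact h1
      have hd : π (ι (σ r) * (ι r)⁻¹) = 1 := by
        rw [map_mul, map_inv, mul_inv_eq_one]
        exact hr'
      have hd' := mem_inf.mp ((hπ1 _).mp hd)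
      refine hr1 ((hπ1 _).mpr ?_)
      rcases hin with h | h
      · refine mem_inf.mpr ⟨h, ?_⟩
        have h5 := mul_mem (inv_mem hd'.2) (hv1 _ h)
        simpa [ι, σ, mul_assoc] using h5
      · refine mem_inf.mpr ⟨?_, h⟩
        have h5 := mul_mem (inv_mem hd'.1) (hv2 _ h)
        simpa [ι, σ, mul_assoc] using h5
    have hr2m : r * r ∈ φ.ker ⊓ π0.ker := mem_inf.mpr
      ⟨MonoidHom.mem_ker.mpr (by rw [map_mul, hX]), MonoidHom.mem_ker.mpr (by rw [map_mul, hQ])⟩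
    haveI : Nontrivial ↥(φ.ker ⊓ π0.ker) :=
      ⟨⟨⟨r * r, hr2m⟩, 1, fun e => hr2 (congrArg Subtype.val e)⟩⟩
    have h2 : 2 ≤ Nat.card ↥(φ.ker ⊓ π0.ker) := Finite.one_lt_card
    have h3 : Nat.card φ.range * 2 ≤ 4 * 4 :=
      ((Nat.mul_le_mul_left _ h2).trans key).trans (Nat.mul_le_mul hK4 hfix4)
    omega
  -- one more generator
  have htop : φ.range ⊔ zpowers (f ⟨v0, hv0⟩) = ⊤ := by
    refine eq_top_iff.mpr fun y _ => ?_
    obtain ⟨u, rfl⟩ := hf y
    by_cases hu : (u : S) ∈ N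
    · exact mem_sup_left ⟨⟨u, hu⟩, rfl⟩
    · have hm := P.index v0 hv0N (u : S) hu
      rw [show u = ⟨v0, hv0⟩ * ((⟨v0, hv0⟩ : H)⁻¹ * u) by group, map_mul]
      exact mul_mem (mem_sup_right (mem_zpowers _))
        (mem_sup_left ⟨⟨(⟨v0, hv0⟩ : H)⁻¹ * u, hm⟩, rfl⟩)
  have := card_sup_zpowers hX φ.range (f ⟨v0, hv0⟩)
  rw [htop, card_top] at this
  omega

end Swap

/-- Sections of a 2-group with such an `E` have rank at most four. -/
theorem Elem.bound (P : Elem E B) (H : Subgroup S) {X : Type*} [Group X] [Finite X] (f : H →* X)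
    (hf : Function.Surjective f) (hX : ∀ a : X, a * a = 1) : Nat.card X ≤ 16 := by
  by_cases h : normalizer (E : Set S) = ⊤
  · exact P.bound_normal H (h ▸ le_top) f hf hX
  · obtain ⟨E2, Q⟩ := P.exists_swap h
    exact Q.bound H f hf hX

end Cfsg.Agent.Harada1235
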